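import Mathlib.AlgebraicGeometry.Gluing
import Mathlib.AlgebraicGeometry.Morphisms.OpenImmersion
import Mathlib.CategoryTheory.Functor.OfSequence

/-!
# The union of an increasing sequence of open immersions of schemes
-/

set_option autoImplicit false
universe u
open CategoryTheory CategoryTheory.Limits AlgebraicGeometry Opposite

namespace K646.Chain

variable {Y : ℕ → Scheme.{u}} (f : ∀ n, Y n ⟶ Y (n + 1))

/-- the diagram -/
noncomputable abbrev F : ℕ ⥤ Scheme.{u} := Functor.ofSequence f

instance isOpenImmersion_map [∀ n, IsOpenImmersion (f n)] {m n : ℕ} (g : m ⟶ n) : IsOpenImmersion ((F f).map g) := by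
  have key : ∀ k (m n : ℕ) (h : m + k = n), IsOpenImmersion ((F f).map (homOfLE (by omega : m ≤ n))) := by
    intro k
    induction k with
    | zero =>
      rintro m _ rfl
      have : homOfLE (by omega : m ≤ m + 0) = 𝟙 m := rfl
      rw [this, CategoryTheory.Functor.map_id]
      infer_instance
    | succ k ih =>
      rintro m _ rfl
      have h1 := ih m (m + k) rfl
      have h2 : homOfLE (by omega : m ≤ m + (k + 1)) =
          homOfLE (by omega : m ≤ m + k) ≫ homOfLE (by omega : m + k ≤ m + k + 1) := rfl
      rw [h2, CategoryTheory.Functor.map_comp]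
      have h3 : (F f).map (homOfLE (by omega : m + k ≤ m + k + 1)) = f (m + k) :=
        Functor.ofSequence_map_homOfLE_succ f (m + k)
      rw [h3]
      exact MorphismProperty.comp_mem @IsOpenImmersion _ _ h1 (inferInstanceAs (IsOpenImmersion (f (m + k))))
  have h := key (n - m) m n (by have := leOfHom g; omega)
  exact h

instance isLocallyDirected [∀ n, IsOpenImmersion (f n)] : (F f ⋙ Scheme.forget).IsLocallyDirected where
  cond {i j k} fi fj xi xj h := by
    have hk : ∀ {m n : ℕ} (g : m ⟶ n), Function.Injective (((F f).map g) : (F f).obj m → (F f).obj n) :=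
      fun g => ((F f).map g).isOpenEmbedding.injective
    rcases le_total i j with hij | hij
    · refine ⟨i, 𝟙 i, homOfLE hij, xi, ?_, ?_⟩
      · simp
      · have h1 : fi = homOfLE hij ≫ fj := rfl
        rw [h1] at h
        apply hk fj
        have h2 : ((F f ⋙ Scheme.forget).map (homOfLE hij ≫ fj)) xi = (F f).map fj ((F f).map (homOfLE hij) xi) := by
          simp
        exact h2.symm.trans h
    · refine ⟨j, homOfLE hij, 𝟙 j, xj, ?_, ?_⟩
      · have h1 : fj = homOfLE hij ≫ fi := rfl
        rw [h1] at h
        apply hk fi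
        have h2 : ((F f ⋙ Scheme.forget).map (homOfLE hij ≫ fi)) xj = (F f).map fi ((F f).map (homOfLE hij) xj) := by
          simp
        exact h2.symm.trans h.symm
      · simp

/-- The union of an increasing sequence of open immersions. -/
theorem exists_union [∀ n, IsOpenImmersion (f n)] : ∃ (D : Scheme.{u}) (i : ∀ n, Y n ⟶ D),
    (∀ n, IsOpenImmersion (i n)) ∧ (∀ n, f n ≫ i (n + 1) = i n) ∧ (∀ x : D, ∃ n, x ∈ Set.range (i n)) ∧
    ∀ (Z : Scheme.{u}) (g : ∀ n, Y n ⟶ Z), (∀ n, f n ≫ g (n + 1) = g n) → ∃ h : D ⟶ Z, ∀ n, i n ≫ h = g n := by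
  refine ⟨colimit (F f), fun n => colimit.ι (F f) n, fun n => inferInstanceAs (IsOpenImmersion (colimit.ι (F f) n)), fun n => ?_, fun x => ?_,
    fun Z g hg => ?_⟩
  · have h := colimit.w (F f) (homOfLE (Nat.le_succ n))
    have h1 : (F f).map (homOfLE (Nat.le_succ n)) = f n := Functor.ofSequence_map_homOfLE_succ f n
    rw [h1] at h
    exact h
  · obtain ⟨n, y, hy⟩ := Scheme.IsLocallyDirected.ι_jointly_surjective (F f) x
    exact ⟨n, y, hy⟩
  · let c : Cocone (F f) := 
      { pt := Z
        ι := NatTrans.ofSequence g (fun n => by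
          have h1 : (F f).map (homOfLE (Nat.le_add_right n 1)) = f n := Functor.ofSequence_map_homOfLE_succ f n
          exact (congrArg (fun z => z ≫ g (n + 1)) h1).trans ((hg n).trans (Category.comp_id _).symm)) }
    exact ⟨colimit.desc (F f) c, fun n => colimit.ι_desc c n⟩

end K646.Chain
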