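import Groth.Agent.AbSch.K646.Chain
import Groth.Agent.Etdl.H432.Sec
import Groth.Agent.CGrpSh.K731.RepPts

/-!
# Representability of an abelian sheaf which is an increasing union of open subfunctors

* `Data E`: an increasing sequence of representable open subfunctors of `E`, fppf-locally exhausting `E`;
* `Data.exists_rep`: `E` is representable, with a universal section.
-/

set_option autoImplicit false
universe u
open CategoryTheory CategoryTheory.Limits MonoidalCategory CartesianMonoidalCategory AlgebraicGeometry Opposite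

namespace K646.ChainRep

open Groth.Agent.Etdl.H432.Sec

variable {S : Scheme.{u}}

/-- An increasing sequence of representable open subfunctors of `E`, fppf-locally exhausting `E`. -/
structure Data (E : EtFppf.AbF S) where
  X : ℕ → Over S
  u : ∀ n, Γs E (X n)
  inj : ∀ (n : ℕ) (W : Over S) (a b : W ⟶ X n), r E a (u n) = r E b (u n) → a = b
  j : ∀ n, X n ⟶ X (n + 1)
  hj : ∀ n, r E (j n) (u (n + 1)) = u n
  isOpen : ∀ n, IsOpenImmersion (j n).left
  exh : ∀ (W : Over S) (e : Γs E W) (w : W.left), ∃ (V : Over S) (g : V ⟶ W) (n : ℕ) (a : V ⟶ X n),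
    Flat g.left ∧ LocallyOfFinitePresentation g.left ∧ w ∈ Set.range g.left ∧ r E a (u n) = r E g e

namespace Data

variable {E : EtFppf.AbF S} (D : Data E)

/-- the union, as a scheme over `S` -/
theorem exists_union : ∃ (Z : Over S) (i : ∀ n, D.X n ⟶ Z), (∀ n, IsOpenImmersion (i n).left) ∧
    (∀ n, D.j n ≫ i (n + 1) = i n) ∧ (∀ x : Z.left, ∃ n, x ∈ Set.range (i n).left) := by
  have := D.isOpen
  obtain ⟨Z, i, h1, h2, h3, h4⟩ := Chain.exists_union (fun n => (D.j n).left)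
  obtain ⟨p, hp⟩ := h4 S (fun n => (D.X n).hom) (fun n => Over.w (D.j n))
  refine ⟨Over.mk p, fun n => Over.homMk (i n) (hp n), h1, fun n => ?_, h3⟩
  apply Over.OverMorphism.ext
  exact h2 n

end Data

section mono

/-- open immersions in `Over S` are monomorphisms -/
theorem mono_of_isOpenImmersion {X Y : Over S} (f : X ⟶ Y) [IsOpenImmersion f.left] : Mono f :=
  Over.mono_of_mono_left f

/-- lifting along an open immersion -/
theorem exists_lift_open {V T Y : Over S} (j : V ⟶ T) [IsOpenImmersion j.left] (f : Y ⟶ T)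
    (h : Set.range f.left ⊆ Set.range j.left) : ∃ f' : Y ⟶ V, f' ≫ j = f := by
  refine ⟨Over.homMk (IsOpenImmersion.lift j.left f.left h) ?_, ?_⟩
  · rw [← Over.w j, ← Category.assoc, IsOpenImmersion.lift_fac, Over.w]
  · ext1
    exact IsOpenImmersion.lift_fac _ _ _

/-- restriction to an open subscheme -/
theorem exists_open (W : Over S) (U : W.left.Opens) : ∃ (V : Over S) (g : V ⟶ W), IsOpenImmersion g.left ∧
    Set.range g.left = (U : Set W.left) :=
  ⟨Over.mk (U.ι ≫ W.hom), Over.homMk U.ι rfl, inferInstanceAs (IsOpenImmersion U.ι), by simp⟩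

theorem isSheaf_yoneda (Z : Over S) : Presieve.IsSheaf (EtFppf.J S) (yoneda.obj Z) := by
  have h : (QuotSh.J Scheme.fppfPrecoverage S).Subcanonical := inferInstance
  exact GrothendieckTopology.Subcanonical.isSheaf_of_isRepresentable (J := QuotSh.J Scheme.fppfPrecoverage S) (yoneda.obj Z)

theorem hom_ext_cov {U Z : Over S} {ι : Type*} {V : ι → Over S} {g : ∀ i, V i ⟶ U} (h : IsCov g) (s t : U ⟶ Z)
    (hst : ∀ i, g i ≫ s = g i ≫ t) : s = t :=
  sepP (isSheaf_yoneda Z) h s t hst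

theorem glue_hom_cov {U Z : Over S} {ι : Type*} {V : ι → Over S} {g : ∀ i, V i ⟶ U} (h : IsCov g) (s : ∀ i, V i ⟶ Z)
    (hs : ∀ (i j : ι) (Y : Over S) (a : Y ⟶ V i) (b : Y ⟶ V j), a ≫ g i = b ≫ g j → a ≫ s i = b ≫ s j) :
    ∃ t : U ⟶ Z, ∀ i, g i ≫ t = s i :=
  glueP (isSheaf_yoneda Z) h s hs

end mono

namespace Data

variable {E : EtFppf.AbF S} (D : Data E)

section

variable {Z : Over S} (i : ∀ n, D.X n ⟶ Z) (h1 : ∀ n, IsOpenImmersion (i n).left)
  (h2 : ∀ n, D.j n ≫ i (n + 1) = i n) (h3 : ∀ x : Z.left, ∃ n, x ∈ Set.range (i n).left)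

include h2 in
/-- transition maps -/
theorem exists_trans {m n : ℕ} (h : m ≤ n) : ∃ k : D.X m ⟶ D.X n, k ≫ i n = i m ∧ r E k (D.u n) = D.u m := by
  induction n, h using Nat.le_induction with
  | base => exact ⟨𝟙 _, Category.id_comp _, r_id _ _⟩
  | succ n _ ih =>
    obtain ⟨k, hk, hk'⟩ := ih
    refine ⟨k ≫ D.j n, ?_, ?_⟩
    · rw [Category.assoc, h2, hk]
    · rw [← r_r, D.hj, hk']

include h1 h3 in
theorem isCov : IsCov i := fun x => by
  obtain ⟨n, hn⟩ := h3 x
  have := h1 n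
  exact ⟨n, inferInstance, inferInstance, hn⟩

include h1 h2 in
theorem compat (m n : ℕ) (W : Over S) (a : W ⟶ D.X m) (b : W ⟶ D.X n) (h : a ≫ i m = b ≫ i n) :
    r E a (D.u m) = r E b (D.u n) := by
  have key : ∀ (m n : ℕ) (_ : m ≤ n) (W : Over S) (a : W ⟶ D.X m) (b : W ⟶ D.X n) (_ : a ≫ i m = b ≫ i n),
      r E a (D.u m) = r E b (D.u n) := by
    intro m n hmn W a b h
    obtain ⟨k, hk, hk'⟩ := D.exists_trans i h2 hmn
    have := h1 n
    have := mono_of_isOpenImmersion (i n)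
    have h4 : a ≫ k = b := by
      rw [← cancel_mono (i n), Category.assoc, hk, h]
    rw [← h4, ← r_r, hk']
  rcases le_total m n with hmn | hmn
  · exact key m n hmn W a b h
  · exact (key n m hmn W b a h.symm).symm

include h1 h2 h3 in
theorem exists_univ : ∃ u : Γs E Z, ∀ n, r E (i n) u = D.u n :=
  glue E (isCov D i h1 h3) D.u (fun m n W a b h => D.compat i h1 h2 m n W a b h)

include h2 in
theorem range_mono {m n : ℕ} (h : m ≤ n) : Set.range (i m).left ⊆ Set.range (i n).left := by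
  obtain ⟨k, hk, -⟩ := D.exists_trans i h2 h
  rintro _ ⟨x, rfl⟩
  refine ⟨k.left x, ?_⟩
  rw [← hk]
  rfl

include h1 h2 h3 in
theorem univ_inj (u : Γs E Z) (hu : ∀ n, r E (i n) u = D.u n) {W : Over S} (a b : W ⟶ Z)
    (h : r E a u = r E b u) : a = b := by
  have key : ∀ w : W.left, ∃ (V : Over S) (g : V ⟶ W), IsOpenImmersion g.left ∧ w ∈ Set.range g.left ∧
      g ≫ a = g ≫ b := by
    intro w
    obtain ⟨m, hm⟩ := h3 (a.left w)
    obtain ⟨n, hn⟩ := h3 (b.left w)
    let N := max m n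
    have hm' := D.range_mono i h2 (le_max_left m n) hm
    have hn' := D.range_mono i h2 (le_max_right m n) hn
    have := h1 N
    let O : Z.left.Opens := (i N).left.opensRange
    obtain ⟨V, g, hg, hr⟩ := exists_open W ((a.left ⁻¹ᵁ O) ⊓ (b.left ⁻¹ᵁ O))
    have hga : Set.range (g ≫ a).left ⊆ Set.range (i N).left := by
      rintro _ ⟨v, rfl⟩
      have h4 : g.left v ∈ (((a.left ⁻¹ᵁ O) ⊓ (b.left ⁻¹ᵁ O) : W.left.Opens) : Set W.left) := hr ▸ ⟨v, rfl⟩
      exact h4.1
    have hgb : Set.range (g ≫ b).left ⊆ Set.range (i N).left := by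
      rintro _ ⟨v, rfl⟩
      have h4 : g.left v ∈ (((a.left ⁻¹ᵁ O) ⊓ (b.left ⁻¹ᵁ O) : W.left.Opens) : Set W.left) := hr ▸ ⟨v, rfl⟩
      exact h4.2
    obtain ⟨a', ha'⟩ := exists_lift_open (i N) (g ≫ a) hga
    obtain ⟨b', hb'⟩ := exists_lift_open (i N) (g ≫ b) hgb
    refine ⟨V, g, hg, ?_, ?_⟩
    · rw [hr]
      exact ⟨hm', hn'⟩
    · rw [← ha', ← hb']
      congr 1
      apply D.inj N
      rw [← hu N, r_r, r_r, ha', hb', ← r_r, ← r_r, h]
  choose V g hg hw he using key
  refine hom_ext_cov (V := V) (g := g) (fun w => ⟨w, ?_, ?_, hw w⟩) a b he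
  · have := hg w
    infer_instance
  · have := hg w
    infer_instance

include h1 h2 h3 in
theorem univ_surj (u : Γs E Z) (hu : ∀ n, r E (i n) u = D.u n) {W : Over S} (e : Γs E W) :
    ∃ a : W ⟶ Z, r E a u = e := by
  choose V g n a hf hl hw he using D.exh W e
  have hc : IsCov g := fun w => ⟨w, hf w, hl w, hw w⟩
  have h4 : ∀ w, r E (a w ≫ i (n w)) u = r E (g w) e := by
    intro w
    rw [← r_r, hu, he]
  obtain ⟨t, ht⟩ := glue_hom_cov hc (fun w => a w ≫ i (n w)) (by
    intro w w' Y b b' hbb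
    apply D.univ_inj i h1 h2 h3 u hu
    rw [← r_r, h4, ← r_r, h4, r_r, r_r, hbb])
  refine ⟨t, sep E hc _ _ fun w => ?_⟩
  rw [r_r, ht, h4]

end

/-- **Representability of increasing unions of open subfunctors.** -/
theorem exists_rep : ∃ (Z : Over S) (i : ∀ n, D.X n ⟶ Z) (u : Γs E Z), (∀ n, IsOpenImmersion (i n).left) ∧
    (∀ n, D.j n ≫ i (n + 1) = i n) ∧ (∀ x : Z.left, ∃ n, x ∈ Set.range (i n).left) ∧
    (∀ n, r E (i n) u = D.u n) ∧ ∀ (W : Over S), Function.Bijective (fun a : W ⟶ Z => r E a u) := by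
  obtain ⟨Z, i, h1, h2, h3⟩ := D.exists_union
  obtain ⟨u, hu⟩ := D.exists_univ i h1 h2 h3
  exact ⟨Z, i, u, h1, h2, h3, hu, fun W => ⟨fun a b h => D.univ_inj i h1 h2 h3 u hu a b h,
    fun e => D.univ_surj i h1 h2 h3 u hu e⟩⟩

end Data

end K646.ChainRep
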