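import Groth.Agent.AbSch.K646.IdemLift
import Groth.Agent.Sga3B.HomFunAff898
import Groth.Agent.Sga3B.OverAff898
import Groth.Agent.S1489
import Groth.Agent.SGA3x.K21.HomRep
import Groth.Agent.SGA3x.K20.HomGrp
import Groth.Agent.SGA3x.K6.HomLoc

/-!
# `Hom_{S-gr}(H, G)` is étale, `H` finite of multiplicative type and `G` finite locally free commutative

* `etale_of_rep`: affine split case;
* `exists_representsHom_etale`: `Hom_{S-gr}(H, G)` is represented by an affine étale `S`-scheme.
-/

set_option autoImplicit false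
universe u
open CategoryTheory MonoidalCategory CartesianMonoidalCategory MonObj AlgebraicGeometry Opposite Limits
open scoped TensorProduct

namespace K646.HomEt

open Groth.Agent.Sga3B Groth.Agent.Books.AffBridge Groth.Agent.Sga3B.HomFun898 Groth.Agent.Sga3B.HaarDef
  Groth.Agent.Sga3B.HomFunAff898 WithConv

variable {R : Type u} [CommRing R]

/-- A Hopf algebra whose group of points is commutative is cocommutative. -/
theorem isCocomm_of_points {A : Type u} [CommRing A] [HopfAlgebra R A]
    (h : ∀ (X : Over (Spec (CommRingCat.of R))) (x y : X ⟶ SpecOver R A), x * y = y * x) :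
    Coalgebra.IsCocomm R A where
  comm_comp_comul := by
    let i₁ : WithConv (A →ₐ[R] A ⊗[R] A) := toConv Algebra.TensorProduct.includeLeft
    let i₂ : WithConv (A →ₐ[R] A ⊗[R] A) := toConv Algebra.TensorProduct.includeRight
    have h1 : i₁ * i₂ = i₂ * i₁ := by
      apply WithConv.ofConv_injective
      apply specMap_injective R
      rw [specMap_mul, specMap_mul]
      exact h _ _ _
    ext a
    have h2 : LinearMap.mul' R (A ⊗[R] A) (TensorProduct.map i₁.ofConv.toLinearMap i₂.ofConv.toLinearMap
        (Coalgebra.comul a)) = LinearMap.mul' R (A ⊗[R] A)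
        (TensorProduct.map i₂.ofConv.toLinearMap i₁.ofConv.toLinearMap (Coalgebra.comul a)) := by
      have h3 := congrArg (fun z : WithConv (A →ₐ[R] A ⊗[R] A) => lin z) h1
      simp only [map_mul] at h3
      exact congrArg (fun z : WithConv (A →ₗ[R] A ⊗[R] A) => z a) h3
    have e1 : ∀ t : A ⊗[R] A, LinearMap.mul' R (A ⊗[R] A)
        (TensorProduct.map i₁.ofConv.toLinearMap i₂.ofConv.toLinearMap t) = t := by
      intro t
      induction t with
      | zero => simp
      | add x y hx hy => rw [map_add, map_add, hx, hy]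
      | tmul x y =>
        rw [TensorProduct.map_tmul, LinearMap.mul'_apply]
        change (x ⊗ₜ[R] (1 : A)) * ((1 : A) ⊗ₜ[R] y) = _
        rw [Algebra.TensorProduct.tmul_mul_tmul, _root_.mul_one, _root_.one_mul]
    have e2 : ∀ t : A ⊗[R] A, LinearMap.mul' R (A ⊗[R] A)
        (TensorProduct.map i₂.ofConv.toLinearMap i₁.ofConv.toLinearMap t) = TensorProduct.comm R A A t := by
      intro t
      induction t with
      | zero => simp
      | add x y hx hy => rw [map_add, map_add, hx, hy, map_add]
      | tmul x y =>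
        rw [TensorProduct.map_tmul, LinearMap.mul'_apply]
        change ((1 : A) ⊗ₜ[R] x) * (y ⊗ₜ[R] (1 : A)) = _
        rw [Algebra.TensorProduct.tmul_mul_tmul, _root_.mul_one, _root_.one_mul]
        rfl
    rw [e1, e2] at h2
    exact h2.symm

/-- **The affine split case.** -/
theorem etale_of_rep {N : Type} [CommGroup N] [Finite N] {C : Type u} [CommRing C] [HopfAlgebra R C]
    [Coalgebra.IsCocomm R C] [Module.Projective R C] {A : Over (Spec (CommRingCat.of R))}
    {υ : SpecOver R (MonoidAlgebra R N) ⊗ A ⟶ SpecOver R C}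
    (h : AutFam.RepresentsHom (SpecOver R (MonoidAlgebra R N)) (SpecOver R C) A υ)
    [LocallyOfFinitePresentation A.hom] : Etale A.hom := by
  classical
  cases nonempty_fintype N
  refine (Groth.Agent.S1489.result A.hom).mpr ⟨inferInstance, ?_⟩
  intro X _ I hI a b hab
  obtain ⟨_, j, hj⟩ := OverAff898.exists_over (Over.mk (𝟙 (Spec (CommRingCat.of R)))) b
  have hb : (SpecOver R X).hom = b := by
    rw [← Over.w j, hj]
    exact Category.comp_id _
  let π : X →ₐ[R] X ⧸ I := Ideal.Quotient.mkₐ R I
  have hπ : Function.Surjective π := Ideal.Quotient.mk_surjective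
  have hK : RingHom.ker π ^ 2 = ⊥ := by
    rw [show RingHom.ker π = I from Ideal.Quotient.mkₐ_ker R I]
    exact hI
  let a' : SpecOver R (X ⧸ I) ⟶ A := Over.homMk a
    (hab.symm.trans ((congrArg (fun z => Spec.map (CommRingCat.ofHom (Ideal.Quotient.mk I)) ≫ z) hb.symm).trans
      (Over.w (specMap R π))))
  -- families over `X` and points of `A`
  have key : ∀ F : WithConv (C →ₐ[R] MonoidAlgebra R N ⊗[R] X), ∀ L : SpecOver R X ⟶ A,
      (SpecOver R (MonoidAlgebra R N) ◁ L) ≫ υ = famOf F →
      (SpecOver R (MonoidAlgebra R N) ◁ (specMap R π ≫ L)) ≫ υ = famOf (pushG (T (MonoidAlgebra R N) π) F) := by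
    intro F L hL
    rw [MonoidalCategory.whiskerLeft_comp, Category.assoc, hL, whisker_famOf]
  have hfam : ∀ {Z : Over (Spec (CommRingCat.of R))} (z : Z ⟶ A),
      AutFam.IsHomFamily (SpecOver R (MonoidAlgebra R N)) (SpecOver R C) ((_ ◁ z) ≫ υ) :=
    fun z => IsoFam.isHomFamily_pull h.1 z
  obtain ⟨F₀, hF₀⟩ := exists_famOf ((SpecOver R (MonoidAlgebra R N) ◁ a') ≫ υ)
  have hF₀' : IsHom F₀ := (isHomFamily_famOf_iff F₀).mp (by rw [hF₀]; exact hfam a')
  obtain ⟨F, hF, hFF⟩ := IdemLift.exists_lift_isHom π hπ hK hF₀'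
  obtain ⟨L, hL, hLu⟩ := h.2 (SpecOver R X) (famOf F) ((isHomFamily_famOf_iff F).mpr hF)
  dsimp only at hL hLu
  have hLa : specMap R π ≫ L = a' := by
    refine (h.2 _ _ (hfam a')).unique ?_ rfl
    rw [key F L hL, hFF, hF₀]
  refine ⟨L.left, ⟨congrArg (fun z => z.left) hLa, ?_⟩, ?_⟩
  · rw [← hb]
    exact Over.w L
  · rintro l' ⟨h1, h2⟩
    let L' : SpecOver R X ⟶ A := Over.homMk l' (h2.trans hb.symm)
    have hLa' : specMap R π ≫ L' = a' := by
      apply Over.OverMorphism.ext
      exact h1
    have h3 : L' = L := by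
      apply hLu
      obtain ⟨F', hF'⟩ := exists_famOf ((SpecOver R (MonoidAlgebra R N) ◁ L') ≫ υ)
      have hF'' : IsHom F' := (isHomFamily_famOf_iff F').mp (by rw [hF']; exact hfam L')
      rw [← hF']
      congr 1
      apply IdemLift.eq_of_push π hK hF'' hF
      apply famOf_injective
      rw [← key F' L' hF'.symm, ← key F L hL, hLa', hLa]
    exact congrArg (fun z => z.left) h3

/-- The coordinate ring of a finite locally free affine group is projective. -/
theorem projective_of_iso {C : Type u} [CommRing C] [Algebra R C] {G : Over (Spec (CommRingCat.of R))}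
    [IsFinite G.hom] [Flat G.hom] [LocallyOfFinitePresentation G.hom] (e : G ≅ SpecOver R C) : Module.Projective R C := by
  have h0 : Spec.map (CommRingCat.ofHom (algebraMap R C)) = e.inv.left ≫ G.hom := (Over.w e.inv).symm
  have hi : IsIso e.inv.left := inferInstanceAs (IsIso ((Over.forget _).map e.inv))
  have h1 : IsFinite (Spec.map (CommRingCat.ofHom (algebraMap R C))) := by
    rw [h0]
    exact (MorphismProperty.cancel_left_of_respectsIso @IsFinite e.inv.left G.hom).mpr inferInstance
  have h2 : Flat (Spec.map (CommRingCat.ofHom (algebraMap R C))) := by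
    rw [h0]
    exact (MorphismProperty.cancel_left_of_respectsIso @Flat e.inv.left G.hom).mpr inferInstance
  have h3 : LocallyOfFinitePresentation (Spec.map (CommRingCat.ofHom (algebraMap R C))) := by
    rw [h0]
    exact (MorphismProperty.cancel_left_of_respectsIso @LocallyOfFinitePresentation e.inv.left G.hom).mpr
      inferInstance
  rw [IsFinite.SpecMap_iff] at h1
  rw [HasRingHomProperty.Spec_iff (P := @Flat)] at h2
  rw [HasRingHomProperty.Spec_iff (P := @LocallyOfFinitePresentation)] at h3
  have h1' : Module.Finite R C := RingHom.finite_algebraMap.mp h1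
  have h2' : Module.Flat R C := RingHom.flat_algebraMap_iff.mp h2
  have h3' : Algebra.FinitePresentation R C := RingHom.finitePresentation_algebraMap.mp h3
  have h4 : Module.FinitePresentation R C := Module.FinitePresentation.of_finite_of_finitePresentation R C
  exact Module.Flat.projective_of_finitePresentation

/-- The affine case, `H` split. -/
theorem etale_of_split (H G : Over (Spec (CommRingCat.of R))) [GrpObj H] [GrpObj G] [IsCommMonObj G] (M : Type)
    [AddCommGroup M] [Finite M] (hH : Red.IsSplitTorusWith M H) [IsFinite G.hom] [Flat G.hom]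
    [LocallyOfFinitePresentation G.hom] {A : Over (Spec (CommRingCat.of R))} {υ : H ⊗ A ⟶ G}
    (h : AutFam.RepresentsHom H G A υ) [LocallyOfFinitePresentation A.hom] : Etale A.hom := by
  have haff : IsAffine G.left := isAffine_of_isAffineHom G.hom
  obtain ⟨C, _, _, eG, heG⟩ := exists_hopf R G
  have hC : Module.Projective R C := projective_of_iso eG
  have hcc : Coalgebra.IsCocomm R C := by
    apply isCocomm_of_points
    intro X x y
    have h1 : ∀ z : X ⟶ SpecOver R C, z = (z ≫ eG.inv) ≫ eG.hom := fun z => by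
      rw [Category.assoc, Iso.inv_hom_id, Category.comp_id]
    have h2 : ∀ a b : X ⟶ SpecOver R C, a * b = ((a ≫ eG.inv) * (b ≫ eG.inv)) ≫ eG.hom := fun a b => by
      rw [MonObj.mul_comp, ← h1, ← h1]
    rw [h2, h2, mul_comm]
  obtain ⟨sp⟩ := hH
  let eH : H ≅ SpecOver R (MonoidAlgebra R (Multiplicative M)) :=
    { hom := sp.hom.hom.hom ≫ DSAff.dsTo R M
      inv := DSAff.dsFrom R M ≫ sp.inv.hom.hom
      hom_inv_id := by
        have h5 : sp.hom.hom.hom ≫ sp.inv.hom.hom = 𝟙 _ := congrArg (fun f => f.hom.hom) sp.hom_inv_id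
        rw [Category.assoc, ← Category.assoc (DSAff.dsTo R M), DSAff.dsTo_dsFrom, Category.id_comp, h5]
      inv_hom_id := by
        have h5 : sp.inv.hom.hom ≫ sp.hom.hom.hom = 𝟙 _ := congrArg (fun f => f.hom.hom) sp.inv_hom_id
        rw [Category.assoc, ← Category.assoc sp.inv.hom.hom, h5, Category.id_comp, DSAff.dsFrom_dsTo] }
  have heH : IsMonHom eH.hom := by
    have h6 : IsMonHom sp.hom.hom.hom := sp.hom.hom.isMonHom_hom
    show IsMonHom (sp.hom.hom.hom ≫ DSAff.dsTo R M)
    infer_instance
  have h1 : IsMonHom eH.symm.hom := inferInstanceAs (IsMonHom eH.inv)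
  have h2 : IsMonHom eG.symm.hom := inferInstanceAs (IsMonHom eG.inv)
  exact etale_of_rep (representsHom_of_iso eH.symm eG.symm h)

/-- **`Hom_{S-gr}(H, G)` is represented by an affine étale scheme**, for `H` finite of multiplicative type and `G`
finite locally free and commutative. -/
theorem exists_representsHom_etale {S : Scheme.{u}} (H G : Over S) [GrpObj H] [GrpObj G] [IsCommMonObj G]
    (hH : SGA3x.IsMultTypeFT H) [IsFinite H.hom] [IsFinite G.hom] [Flat G.hom] [LocallyOfFinitePresentation G.hom] :
    ∃ (A : Over S) (υ : H ⊗ A ⟶ G), AutFam.RepresentsHom H G A υ ∧ IsAffineHom A.hom ∧ Etale A.hom := by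
  have h1 : Flat H.hom := K10.MTLoc.flat hH
  have h2 : LocallyOfFinitePresentation H.hom := K10.MTLoc.locallyOfFinitePresentation hH
  obtain ⟨A, υ, h, hA, -, hA'⟩ := K20.HomGrp.exists_representsHom H G
  have h3 := hA' inferInstance
  refine ⟨A, υ, h, hA, ?_⟩
  refine RepDescent.prop_of_representsHom @Etale h fun s => ?_
  obtain ⟨B, _, v, M, _, hv, ⟨y, hy⟩, hM, ⟨e⟩⟩ := K10.MTLoc.exists_etale_split hH s
  have hB : Nontrivial B := (PrimeSpectrum.nonempty_iff_nontrivial (R := B)).mp ⟨y⟩
  have hfH : IsFinite (Red.bc v H).hom := inferInstanceAs (IsFinite (Limits.pullback.snd H.hom v))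
  have hMf : Finite M := K6.HomLoc.finite_of_isFinite ⟨e⟩ hfH
  obtain ⟨υ', h'⟩ := RepDescent.representsHom_bc h v
  have i1 : IsFinite (Red.bc v G).hom := inferInstanceAs (IsFinite (Limits.pullback.snd G.hom v))
  have i2 : Flat (Red.bc v G).hom := inferInstanceAs (Flat (Limits.pullback.snd G.hom v))
  have i3 : LocallyOfFinitePresentation (Red.bc v G).hom :=
    inferInstanceAs (LocallyOfFinitePresentation (Limits.pullback.snd G.hom v))
  have i4 : LocallyOfFinitePresentation (Red.bc v A).hom :=
    inferInstanceAs (LocallyOfFinitePresentation (Limits.pullback.snd A.hom v))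
  exact ⟨_, v, hv, ⟨y, hy⟩, Red.bc v A, υ', h', etale_of_split (Red.bc v H) (Red.bc v G) M ⟨e⟩ h'⟩

end K646.HomEt
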