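import Groth.Agent.Sga3B.TorusWt
import Mathlib.RingTheory.Idempotents
import Mathlib.RingTheory.Bialgebra.TensorProduct
import Mathlib.RingTheory.HopfAlgebra.TensorProduct

/-!
# Homomorphisms from a finite diagonalisable group to a finite commutative group lift uniquely
along square-zero thickenings

`C` a commutative, cocommutative Hopf algebra over `R`, `N` a finite commutative group.  A homomorphism
`F : C →ₐ[R] R[N] ⊗ X` is the same thing as a complete family of orthogonal idempotents `cf F n` of the convolution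
algebra of linear forms `C →ₗ[R] X`, compatible with the multiplication of `C`.
* `eq_of_push`: uniqueness of lifts; `exists_lift_isHom`: existence of lifts, `C` projective.
-/

set_option autoImplicit false
set_option linter.unusedSectionVars false

open TensorProduct Coalgebra Bialgebra WithConv
open Groth.Agent.Sga3B.HaarDef Groth.Agent.Sga3B.TorusWt

namespace K646.IdemLift

noncomputable section

variable {R : Type*} [CommRing R] {N : Type*} [CommGroup N]
variable {C : Type*} [CommRing C] [HopfAlgebra R C]
variable {X Y : Type*} [CommRing X] [Algebra R X] [CommRing Y] [Algebra R Y]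

/-! ### Products of linear forms -/

/-- external product -/
def box (f g : WithConv (C →ₗ[R] X)) : WithConv (C ⊗[R] C →ₗ[R] X) :=
  toConv (LinearMap.mul' R X ∘ₗ TensorProduct.map f.ofConv g.ofConv)

lemma box_tmul (f g : WithConv (C →ₗ[R] X)) (c c' : C) : box f g (c ⊗ₜ c') = f c * g c' := by
  change LinearMap.mul' R X (TensorProduct.map f.ofConv g.ofConv (c ⊗ₜ c')) = _
  rw [TensorProduct.map_tmul, LinearMap.mul'_apply]

lemma conv_ext₂ {φ ψ : WithConv (C ⊗[R] C →ₗ[R] X)} (h : ∀ c c', φ (c ⊗ₜ c') = ψ (c ⊗ₜ c')) : φ = ψ := by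
  apply WithConv.ofConv_injective
  apply TensorProduct.ext'
  exact h

lemma box_eq_push (f g : WithConv (C →ₗ[R] X)) :
    box f g = push (Algebra.TensorProduct.lmul' R (S := X)) (toConv (TensorProduct.map f.ofConv g.ofConv)) := rfl

lemma box_mul_box (f g f' g' : WithConv (C →ₗ[R] X)) : box f g * box f' g' = box (f * f') (g * g') := by
  rw [box_eq_push, box_eq_push, box_eq_push, ← map_mul]
  congr 1
  exact TensorProduct.map_convMul_map

lemma box_zero_left (g : WithConv (C →ₗ[R] X)) : box 0 g = 0 :=
  conv_ext₂ fun c c' => by rw [box_tmul]; exact zero_mul _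

lemma push_box (π : X →ₐ[R] Y) (f g : WithConv (C →ₗ[R] X)) : push π (box f g) = box (push π f) (push π g) :=
  conv_ext₂ fun c c' => by
    rw [box_tmul]
    change π (box f g (c ⊗ₜ c')) = _
    rw [box_tmul, map_mul]
    rfl

/-- restriction along the multiplication of `C` -/
def pm (f : WithConv (C →ₗ[R] X)) : WithConv (C ⊗[R] C →ₗ[R] X) := toConv (f.ofConv ∘ₗ LinearMap.mul' R C)

lemma pm_tmul (f : WithConv (C →ₗ[R] X)) (c c' : C) : pm f (c ⊗ₜ c') = f (c * c') := rfl

lemma pm_mul (f g : WithConv (C →ₗ[R] X)) : pm (f * g) = pm f * pm g := by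
  apply WithConv.ofConv_injective
  exact LinearMap.convMul_comp_coalgHom_distrib f g (mulCoalgHom R C)

lemma push_pm (π : X →ₐ[R] Y) (f : WithConv (C →ₗ[R] X)) : push π (pm f) = pm (push π f) := rfl

/-- evaluation at one -/
lemma mul_apply_one (f g : WithConv (C →ₗ[R] X)) : (f * g) (1 : C) = f 1 * g 1 := by
  rw [LinearMap.convMul_apply, Bialgebra.comul_one]
  change LinearMap.mul' R X (TensorProduct.map f.ofConv g.ofConv ((1 : C) ⊗ₜ (1 : C))) = _
  rw [TensorProduct.map_tmul, LinearMap.mul'_apply]

/-! ### Uniqueness of lifts of idempotents -/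

section uniq

variable {B : Type*} [CommRing B] [HopfAlgebra R B] [Coalgebra.IsCocomm R B]

omit [Coalgebra.IsCocomm R B] in
theorem isNilpotent_of_push_eq_zero (π : X →ₐ[R] Y) (hK : (RingHom.ker π) ^ 2 = ⊥) (x : WithConv (B →ₗ[R] X))
    (h : push π x = 0) : IsNilpotent x := by
  refine ⟨2, ?_⟩
  have h1 : InIdeal (RingHom.ker π) x := fun c => by
    have h2 : (push π x) c = (0 : WithConv (B →ₗ[R] Y)) c := by rw [h]
    exact h2
  rw [pow_two]
  exact h1.mul_eq_zero hK h1

theorem idem_eq (π : X →ₐ[R] Y) (hK : (RingHom.ker π) ^ 2 = ⊥) {e e' : WithConv (B →ₗ[R] X)}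
    (he : IsIdempotentElem e) (he' : IsIdempotentElem e') (h : push π e = push π e') : e = e' := by
  refine eq_of_isNilpotent_sub_of_isIdempotentElem he he' (isNilpotent_of_push_eq_zero π hK _ ?_)
  rw [map_sub, h, sub_self]

end uniq

variable [Coalgebra.IsCocomm R C]

omit [Coalgebra.IsCocomm R C] in
theorem isIdempotentElem_cf {F : WithConv (C →ₐ[R] MonoidAlgebra R N ⊗[R] X)} (hF : IsHom F) (n : N) :
    IsIdempotentElem (cf F n) := by
  classical
  have h := cf_mul_cf hF n n
  rw [if_pos rfl] at h
  exact h

omit [Coalgebra.IsCocomm R C] in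
theorem eq_of_cf {F F' : WithConv (C →ₐ[R] MonoidAlgebra R N ⊗[R] X)} (h : ∀ n, cf F n = cf F' n) : F = F' := by
  apply lin_injective
  apply conv_ext
  intro c
  apply coef_ext
  intro n
  have h1 : (cf F n) c = (cf F' n) c := by rw [h]
  exact h1

/-- **Uniqueness of lifts.** -/
theorem eq_of_push (π : X →ₐ[R] Y) (hK : (RingHom.ker π) ^ 2 = ⊥)
    {F F' : WithConv (C →ₐ[R] MonoidAlgebra R N ⊗[R] X)} (hF : IsHom F) (hF' : IsHom F')
    (h : pushG (T (MonoidAlgebra R N) π) F = pushG (T (MonoidAlgebra R N) π) F') : F = F' := by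
  refine eq_of_cf fun n => idem_eq π hK (isIdempotentElem_cf hF n) (isIdempotentElem_cf hF' n) ?_
  rw [← cf_pushG_T, ← cf_pushG_T, h]

/-! ### Existence of lifts -/

section exist

omit [Coalgebra.IsCocomm R C] in
theorem coef_mul [Fintype N] (n : N) (z w : MonoidAlgebra R N ⊗[R] X) :
    coef R n X (z * w) = ∑ k, coef R k X z * coef R (k⁻¹ * n) X w := by
  classical
  induction z using TensorProduct.induction_on with
  | zero => simp
  | add a b ha hb => simp only [add_mul, map_add, ha, hb, Finset.sum_add_distrib]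
  | tmul d x =>
    induction d using MonoidAlgebra.induction_linear with
    | zero => simp
    | add f g hf hg => simp only [TensorProduct.add_tmul, add_mul, map_add, hf, hg, Finset.sum_add_distrib]
    | single m r =>
      induction w using TensorProduct.induction_on with
      | zero => simp
      | add a b ha hb => simp only [mul_add, map_add, ha, hb, Finset.sum_add_distrib]
      | tmul d' y =>
        induction d' using MonoidAlgebra.induction_linear with
        | zero => simp
        | add f g hf hg => simp only [TensorProduct.add_tmul, mul_add, map_add, hf, hg, Finset.sum_add_distrib]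
        | single m' r' =>
          rw [Algebra.TensorProduct.tmul_mul_tmul, MonoidAlgebra.single_mul_single, coef_single]
          rw [Finset.sum_eq_single m]
          · rw [coef_single, coef_single, if_pos rfl]
            by_cases h : m * m' = n
            · rw [if_pos h, if_pos (by rw [← h, inv_mul_cancel_left])]
              rw [smul_mul_smul_comm]
            · rw [if_neg h, if_neg (by rintro rfl; exact h (mul_inv_cancel_left _ _)), mul_zero]
          · intro k _ hk
            rw [coef_single, if_neg (Ne.symm hk), zero_mul]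
          · intro h
            exact absurd (Finset.mem_univ _) h

variable [Fintype N] [DecidableEq N]

omit [Coalgebra.IsCocomm R C] [DecidableEq N] in
theorem pm_cf (F : WithConv (C →ₐ[R] MonoidAlgebra R N ⊗[R] X)) (n : N) :
    pm (cf F n) = ∑ k, box (cf F k) (cf F (k⁻¹ * n)) := by
  apply conv_ext₂
  intro c c'
  rw [pm_tmul, cf_apply]
  have h1 : F (c * c') = F c * F c' := map_mul F.ofConv c c'
  rw [h1, coef_mul]
  have h2 : (∑ k, box (cf F k) (cf F (k⁻¹ * n))) (c ⊗ₜ[R] c') =
      ∑ k, (box (cf F k) (cf F (k⁻¹ * n))) (c ⊗ₜ[R] c') := by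
    let ψ : WithConv (C ⊗[R] C →ₗ[R] X) →+ X :=
      { toFun := fun f => f (c ⊗ₜ[R] c')
        map_zero' := rfl
        map_add' := fun _ _ => rfl }
    exact map_sum ψ _ _
  rw [h2]
  exact Finset.sum_congr rfl fun k _ => (box_tmul (cf F k) (cf F (k⁻¹ * n)) c c').symm

variable {e : N → WithConv (C →ₗ[R] X)}

omit [Coalgebra.IsCocomm R C] in
theorem isIdempotentElem_box (he : ∀ n m, e n * e m = if n = m then e n else 0) (n : N) :
    IsIdempotentElem (∑ k, box (e k) (e (k⁻¹ * n))) := by
  rw [IsIdempotentElem, Finset.sum_mul_sum]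
  refine Finset.sum_congr rfl fun k _ => ?_
  rw [Finset.sum_eq_single k]
  · rw [box_mul_box, he, he, if_pos rfl, if_pos rfl]
  · intro k' _ hk
    rw [box_mul_box, he, if_neg (Ne.symm hk), box_zero_left]
  · intro h
    exact absurd (Finset.mem_univ _) h

/-- the linear map with coefficients `e` -/
def mkL (e : N → WithConv (C →ₗ[R] X)) : C →ₗ[R] MonoidAlgebra R N ⊗[R] X :=
  ∑ n, (TensorProduct.mk R (MonoidAlgebra R N) X (MonoidAlgebra.single n 1)) ∘ₗ (e n).ofConv

omit [Coalgebra.IsCocomm R C] [DecidableEq N] in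
theorem mkL_apply (c : C) : mkL e c = ∑ n, MonoidAlgebra.single n (1 : R) ⊗ₜ[R] e n c := by
  rw [mkL, LinearMap.sum_apply]
  rfl

omit [Coalgebra.IsCocomm R C] in
theorem coef_mkL (n : N) (c : C) : coef R n X (mkL e c) = e n c := by
  rw [mkL_apply, map_sum, Finset.sum_eq_single n]
  · rw [coef_single, if_pos rfl, one_smul]
  · intro m _ hm
    rw [coef_single, if_neg hm]
  · intro h
    exact absurd (Finset.mem_univ _) h

/-- **Existence of lifts.** -/
theorem exists_lift_isHom [Module.Projective R C] (π : X →ₐ[R] Y) (hπ : Function.Surjective π)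
    (hK : (RingHom.ker π) ^ 2 = ⊥) {F₀ : WithConv (C →ₐ[R] MonoidAlgebra R N ⊗[R] Y)} (hF₀ : IsHom F₀) :
    ∃ F : WithConv (C →ₐ[R] MonoidAlgebra R N ⊗[R] X), IsHom F ∧ pushG (T (MonoidAlgebra R N) π) F = F₀ := by
  -- the idempotents
  have hc : CompleteOrthogonalIdempotents (cf F₀) :=
    { idem := fun n => isIdempotentElem_cf hF₀ n
      ortho := fun n m hnm => by
        have h := cf_mul_cf hF₀ n m
        rw [if_neg hnm] at h
        exact h
      complete := by
        apply conv_ext
        intro c
        have h1 := sum_cf hF₀ c (s := Finset.univ) (fun n hn => absurd (Finset.mem_univ _) hn)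
        have h2 : (∑ n, cf F₀ n) c = ∑ n, cf F₀ n c := by
          let ψ : WithConv (C →ₗ[R] Y) →+ Y :=
            { toFun := fun f => f c
              map_zero' := rfl
              map_add' := fun _ _ => rfl }
          exact map_sum ψ _ _
        rw [h2, h1]
        rfl }
  have hsurj : ∀ φ : WithConv (C →ₗ[R] Y), φ ∈ (push π : WithConv (C →ₗ[R] X) →+* WithConv (C →ₗ[R] Y)).range := by
    intro φ
    obtain ⟨ψ, hψ⟩ := Module.projective_lifting_property π.toLinearMap φ.ofConv hπ
    refine ⟨toConv ψ, ?_⟩
    apply WithConv.ofConv_injective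
    exact hψ
  obtain ⟨e, he, hef⟩ := CompleteOrthogonalIdempotents.lift_of_isNilpotent_ker
    (push π : WithConv (C →ₗ[R] X) →+* WithConv (C →ₗ[R] Y))
    (fun x hx => isNilpotent_of_push_eq_zero π hK x hx) hc (fun n => hsurj _)
  have hpe : ∀ n, push π (e n) = cf F₀ n := fun n => congrFun hef n
  have he' : ∀ n m, e n * e m = if n = m then e n else 0 := fun n m => he.toOrthogonalIdempotents.mul_eq n m
  -- compatibility with multiplication
  have hm : ∀ n, pm (e n) = ∑ k, box (e k) (e (k⁻¹ * n)) := by
    intro n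
    refine idem_eq π hK ?_ (isIdempotentElem_box he' n) ?_
    · rw [IsIdempotentElem, ← pm_mul, he', if_pos rfl]
    · rw [push_pm, hpe, pm_cf, map_sum]
      exact Finset.sum_congr rfl fun k _ => by rw [push_box, hpe, hpe]
  have h1 : ∀ n, e n (1 : C) = if (1 : N) = n then 1 else 0 := by
    intro n
    have i1 : IsIdempotentElem (e n (1 : C)) := by
      rw [IsIdempotentElem, ← mul_apply_one, he', if_pos rfl]
    have i2 : IsIdempotentElem (if (1 : N) = n then (1 : X) else 0) := by
      split_ifs
      · exact IsIdempotentElem.one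
      · exact IsIdempotentElem.zero
    refine eq_of_isNilpotent_sub_of_isIdempotentElem i1 i2 ⟨2, ?_⟩
    have h2 : e n (1 : C) - (if (1 : N) = n then (1 : X) else 0) ∈ RingHom.ker π := by
      rw [RingHom.mem_ker, map_sub]
      have h3 : π (e n (1 : C)) = cf F₀ n (1 : C) := by rw [← hpe]; rfl
      have h4 : F₀ (1 : C) = 1 := map_one F₀.ofConv
      rw [h3, cf_apply, h4, Algebra.TensorProduct.one_def, MonoidAlgebra.one_def, coef_single]
      split_ifs
      · rw [one_smul, map_one, sub_self]
      · rw [map_zero, sub_self]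
    have h5 := Ideal.pow_mem_pow h2 2
    rw [hK] at h5
    exact h5
  -- the algebra map
  let F : WithConv (C →ₐ[R] MonoidAlgebra R N ⊗[R] X) := toConv (AlgHom.ofLinearMap (mkL e)
    (by
      apply coef_ext
      intro n
      rw [coef_mkL, h1, Algebra.TensorProduct.one_def, MonoidAlgebra.one_def, coef_single]
      split_ifs
      · rw [one_smul]
      · rfl)
    (by
      intro c c'
      apply coef_ext
      intro n
      rw [coef_mkL, coef_mul]
      have h2 : (pm (e n)) (c ⊗ₜ[R] c') = (∑ k, box (e k) (e (k⁻¹ * n))) (c ⊗ₜ[R] c') := by rw [hm]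
      have h3 : (∑ k, box (e k) (e (k⁻¹ * n))) (c ⊗ₜ[R] c') =
          ∑ k, (box (e k) (e (k⁻¹ * n))) (c ⊗ₜ[R] c') := by
        let ψ : WithConv (C ⊗[R] C →ₗ[R] X) →+ X :=
          { toFun := fun f => f (c ⊗ₜ[R] c')
            map_zero' := rfl
            map_add' := fun _ _ => rfl }
        exact map_sum ψ _ _
      refine h2.trans (h3.trans (Finset.sum_congr rfl fun k _ => ?_))
      rw [box_tmul, coef_mkL, coef_mkL]))
  have hcf : ∀ n, cf F n = e n := by
    intro n
    apply conv_ext
    intro c
    exact coef_mkL n c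
  refine ⟨F, ?_, ?_⟩
  · apply lin_injective
    apply conv_ext
    intro c
    apply coef_ext
    intro n
    apply coef_ext
    intro m
    have h2 : (lin (pushG (δ R (MonoidAlgebra R N) X) F)) c = δ R (MonoidAlgebra R N) X (F c) := rfl
    rw [h2, coef_coef_δ, map_mul, convMul_repr, map_sum, map_sum]
    have h3 : ∀ i ∈ (ℛ R c).index,
      coef R m X (coef R n (MonoidAlgebra R N ⊗[R] X)
        ((lin (pushG (T (MonoidAlgebra R N) (ι R (MonoidAlgebra R N) X)) F)) ((ℛ R c).left i) *
        (lin (pushG (ι R (MonoidAlgebra R N) (MonoidAlgebra R N ⊗[R] X)) F)) ((ℛ R c).right i))) =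
        cf F n ((ℛ R c).left i) * cf F m ((ℛ R c).right i) := by
      intro i _
      exact coef_coef_mul n m _ _
    rw [Finset.sum_congr rfl h3, ← convMul_repr, hcf, hcf, he']
    split_ifs
    · rw [← hcf]
      rfl
    · rfl
  · apply eq_of_cf
    intro n
    rw [cf_pushG_T, hcf, hpe]

end exist

end

end K646.IdemLift
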